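import Groth.Agent.GammaProd.QAGroup
import Groth.Agent.GrpField.QAAffine

/-!
# The affine hull of a group scheme over a field
-/

universe u

open CategoryTheory CategoryTheory.Limits MonoidalCategory CartesianMonoidalCategory MonObj GrpObj AlgebraicGeometry

namespace Groth.Agent.AffHull

variable {k : Type u} [Field k]

/-- a morphism to an affine object is determined after a map inducing a bijection on functions -/
theorem ext_of_factor {P Q C : Over (Spec (CommRingCat.of k))} [IsAffine C.left] (q : P ⟶ Q)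
    [IsIso q.left.appTop] {g g' : Q ⟶ C} (h : q ≫ g = q ≫ g') : g = g' := by
  ext : 1
  apply ext_of_isAffine
  have := congr($(h).left.appTop)
  simp only [Over.comp_left, Scheme.Hom.comp_appTop] at this
  exact (cancel_mono q.left.appTop).1 this

/-- a morphism to an affine object factors through a map inducing a bijection on functions -/
theorem exists_factor {P Q C : Over (Spec (CommRingCat.of k))} [IsAffine C.left] (q : P ⟶ Q)
    [IsIso q.left.appTop] (f : P ⟶ C) : ∃ g : Q ⟶ C, q ≫ g = f := by
  let g₀ : Q.left ⟶ C.left :=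
    Q.left.toSpecΓ ≫ Spec.map (f.left.appTop ≫ inv q.left.appTop) ≫ C.left.isoSpec.inv
  have hg : q.left ≫ g₀ = f.left := by
    simp only [g₀, Scheme.toSpecΓ_naturality_assoc]
    rw [← Spec.map_comp_assoc, Category.assoc, IsIso.inv_hom_id, Category.comp_id,
      ← Scheme.toSpecΓ_naturality_assoc]
    simp [Scheme.isoSpec]
  have hw : g₀ ≫ C.hom = Q.hom := by
    apply ext_of_isAffine
    rw [← cancel_mono q.left.appTop, ← Scheme.Hom.comp_appTop, ← Scheme.Hom.comp_appTop,
      reassoc_of% hg, Over.w, Over.w]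
  exact ⟨Over.homMk g₀ hw, Over.OverMorphism.ext hg⟩

/-- functions on products only depend on the functions of the factors -/
theorem isIso_appTop_tensor {X X' Y Y' : Over (Spec (CommRingCat.of k))} (a : X ⟶ X') (b : Y ⟶ Y')
    [IsIso a.left.appTop] [IsIso b.left.appTop] [CompactSpace X.left] [X.left.IsSeparated]
    [CompactSpace X'.left] [X'.left.IsSeparated] [CompactSpace Y.left] [Y.left.IsSeparated]
    [CompactSpace Y'.left] [Y'.left.IsSeparated] : IsIso (a ⊗ₘ b).left.appTop := by
  have HP := GammaProd.isPushout_appTop (GammaProd.flat_appTop_field Y.hom)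
    (IsPullback.of_hasPullback X.hom Y.hom)
  have HP' := GammaProd.isPushout_appTop (GammaProd.flat_appTop_field Y'.hom)
    (IsPullback.of_hasPullback X'.hom Y'.hom)
  let φ := (a ⊗ₘ b).left.appTop
  have hp : (pullback.fst X'.hom Y'.hom).appTop ≫ φ =
      a.left.appTop ≫ (pullback.fst X.hom Y.hom).appTop := by
    have := congr($(tensorHom_fst a b).left.appTop)
    simp only [Over.comp_left, Scheme.Hom.comp_appTop] at this
    exact this
  have hq : (pullback.snd X'.hom Y'.hom).appTop ≫ φ =
      b.left.appTop ≫ (pullback.snd X.hom Y.hom).appTop := by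
    have := congr($(tensorHom_snd a b).left.appTop)
    simp only [Over.comp_left, Scheme.Hom.comp_appTop] at this
    exact this
  have ha : X.hom.appTop ≫ inv a.left.appTop = X'.hom.appTop := by
    rw [IsIso.comp_inv_eq, ← Scheme.Hom.comp_appTop, Over.w]
  have hb : Y.hom.appTop ≫ inv b.left.appTop = Y'.hom.appTop := by
    rw [IsIso.comp_inv_eq, ← Scheme.Hom.comp_appTop, Over.w]
  let ψ := HP.desc (inv a.left.appTop ≫ (pullback.fst X'.hom Y'.hom).appTop)
    (inv b.left.appTop ≫ (pullback.snd X'.hom Y'.hom).appTop)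
    (by rw [reassoc_of% ha, reassoc_of% hb]; exact HP'.w)
  refine ⟨ψ, HP'.hom_ext ?_ ?_, HP.hom_ext ?_ ?_⟩
  · rw [reassoc_of% hp, HP.inl_desc, IsIso.hom_inv_id_assoc]; exact (Category.comp_id _).symm
  · rw [reassoc_of% hq, HP.inr_desc, IsIso.hom_inv_id_assoc]; exact (Category.comp_id _).symm
  · rw [HP.inl_desc_assoc, Category.assoc, hp, IsIso.inv_hom_id_assoc]; exact (Category.comp_id _).symm
  · rw [HP.inr_desc_assoc, Category.assoc, hq, IsIso.inv_hom_id_assoc]; exact (Category.comp_id _).symm

/-- The affine hull `Spec Γ(G)` of `G`, over the field. -/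
noncomputable def hull (G : Over (Spec (CommRingCat.of k))) : Over (Spec (CommRingCat.of k)) :=
  Over.mk (Spec.map G.hom.appTop ≫ (Spec (CommRingCat.of k)).isoSpec.inv)

/-- The canonical morphism to the affine hull. -/
noncomputable def toHull (G : Over (Spec (CommRingCat.of k))) : G ⟶ hull G :=
  Over.homMk G.left.toSpecΓ (by
    show G.left.toSpecΓ ≫ Spec.map G.hom.appTop ≫ _ = _
    rw [← Scheme.toSpecΓ_naturality_assoc]
    simp [Scheme.isoSpec])

instance (G : Over (Spec (CommRingCat.of k))) : IsAffine (hull G).left :=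
  inferInstanceAs (IsAffine (Spec _))

instance (G : Over (Spec (CommRingCat.of k))) [CompactSpace G.left] [QuasiSeparatedSpace G.left] :
    IsIso (toHull G).left.appTop := by
  show IsIso G.left.toSpecΓ.appTop
  rw [Scheme.toSpecΓ_appTop]
  infer_instance

theorem exists_grpObj (G : Over (Spec (CommRingCat.of k))) [GrpObj G]
    [CompactSpace G.left] [G.left.IsSeparated] :
    ∃ _ : GrpObj (hull G), IsMonHom (toHull G) := by
  let C := hull G
  let a : G ⟶ C := toHull G
  have : IsIso a.left.appTop := inferInstanceAs (IsIso (toHull G).left.appTop)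
  have hsep : ∀ (X : Over (Spec (CommRingCat.of k))) [X.left.IsSeparated], IsSeparated X.hom := fun X _ => by
    have : IsSeparated (X.hom ≫ terminal.from _) := by rw [terminal.comp_from]; infer_instance
    exact IsSeparated.of_comp X.hom (terminal.from _)
  have : IsSeparated G.hom := hsep G
  have : QuasiCompact G.hom := (quasiCompact_iff_compactSpace G.hom).mpr inferInstance
  have : (G ⊗ G).left.IsSeparated := ⟨by
    have : IsSeparated ((pullback.fst G.hom G.hom) ≫ terminal.from G.left) := inferInstance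
    rwa [terminal.comp_from] at this⟩
  have : CompactSpace (G ⊗ G).left :=
    QuasiCompact.compactSpace_of_compactSpace (pullback.fst G.hom G.hom)
  have : IsSeparated C.hom := hsep C
  have : QuasiCompact C.hom := (quasiCompact_iff_compactSpace C.hom).mpr inferInstance
  have : IsAffine (C ⊗ C).left := inferInstanceAs (IsAffine (pullback C.hom C.hom))
  have h2 : IsIso (a ⊗ₘ a).left.appTop := isIso_appTop_tensor a a
  have h3 : IsIso ((a ⊗ₘ a) ⊗ₘ a).left.appTop := isIso_appTop_tensor (a ⊗ₘ a) a
  have : CompactSpace (𝟙_ (Over (Spec (CommRingCat.of k)))).left :=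
    inferInstanceAs (CompactSpace (Spec (CommRingCat.of k)))
  have : (𝟙_ (Over (Spec (CommRingCat.of k)))).left.IsSeparated :=
    inferInstanceAs ((Spec (CommRingCat.of k)).IsSeparated)
  have : IsIso (Over.Hom.left (𝟙 (𝟙_ (Over (Spec (CommRingCat.of k)))))).appTop := by
    rw [Over.id_left, Scheme.Hom.id_appTop]; infer_instance
  have h0l : IsIso (𝟙_ (Over (Spec (CommRingCat.of k))) ◁ a).left.appTop := by
    rw [← id_tensorHom]; exact isIso_appTop_tensor _ _
  have h0r : IsIso (a ▷ 𝟙_ (Over (Spec (CommRingCat.of k)))).left.appTop := by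
    rw [← tensorHom_id]; exact isIso_appTop_tensor _ _
  obtain ⟨m, hm⟩ := exists_factor (a ⊗ₘ a) (μ[G] ≫ a)
  obtain ⟨i, hi⟩ := exists_factor a (ι[G] ≫ a)
  letI inst : GrpObj C :=
    { one := η[G] ≫ a
      mul := m
      inv := i
      one_mul := ext_of_factor (𝟙_ (Over (Spec (CommRingCat.of k))) ◁ a) (by
        rw [← Category.assoc, ← id_tensorHom, ← tensorHom_id, tensorHom_comp_tensorHom,
          Category.id_comp, Category.comp_id, show ((η[G] ≫ a) ⊗ₘ a) = (η[G] ▷ G) ≫ (a ⊗ₘ a) by
            rw [← tensorHom_id, tensorHom_comp_tensorHom, Category.id_comp],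
          Category.assoc, hm, MonObj.one_mul_assoc, id_tensorHom, leftUnitor_naturality])
      mul_one := ext_of_factor (a ▷ 𝟙_ (Over (Spec (CommRingCat.of k)))) (by
        rw [← Category.assoc, ← id_tensorHom, ← tensorHom_id, tensorHom_comp_tensorHom,
          Category.id_comp, Category.comp_id, show (a ⊗ₘ (η[G] ≫ a)) = (G ◁ η[G]) ≫ (a ⊗ₘ a) by
            rw [← id_tensorHom, tensorHom_comp_tensorHom, Category.id_comp],
          Category.assoc, hm, MonObj.mul_one_assoc, tensorHom_id, rightUnitor_naturality])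
      mul_assoc := ext_of_factor ((a ⊗ₘ a) ⊗ₘ a) (by
        rw [associator_naturality_assoc, ← tensorHom_id, ← id_tensorHom,
          tensorHom_comp_tensorHom_assoc, tensorHom_comp_tensorHom_assoc, hm, Category.comp_id,
          show ((μ[G] ≫ a) ⊗ₘ a) = (μ[G] ▷ G) ≫ (a ⊗ₘ a) by
            rw [← tensorHom_id, tensorHom_comp_tensorHom, Category.id_comp],
          show (a ⊗ₘ (μ[G] ≫ a)) = (G ◁ μ[G]) ≫ (a ⊗ₘ a) by
            rw [← id_tensorHom, tensorHom_comp_tensorHom, Category.id_comp],
          Category.assoc, Category.assoc, hm, MonObj.mul_assoc_assoc])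
      left_inv := ext_of_factor a (by
        rw [comp_lift_assoc, Category.comp_id, hi, show lift (ι[G] ≫ a) a = lift ι[G] (𝟙 G) ≫ (a ⊗ₘ a) by
          rw [lift_map, Category.id_comp], Category.assoc, hm, GrpObj.left_inv_assoc, comp_toUnit_assoc])
      right_inv := ext_of_factor a (by
        rw [comp_lift_assoc, Category.comp_id, hi, show lift a (ι[G] ≫ a) = lift (𝟙 G) ι[G] ≫ (a ⊗ₘ a) by
          rw [lift_map, Category.id_comp], Category.assoc, hm, GrpObj.right_inv_assoc, comp_toUnit_assoc]) }
  exact ⟨inst, ⟨rfl, hm.symm⟩⟩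

end Groth.Agent.AffHull

namespace Groth.Agent.AffHull

variable {k : Type u} [Field k]

/-- A pointed map from a scheme with only constant functions to an affine one is constant. -/
theorem eq_const_of_affine {X Z : Over (Spec (CommRingCat.of k))} [IsAffine Z.left]
    (hX : Function.Bijective ((Scheme.ΓSpecIso (CommRingCat.of k)).inv ≫ X.hom.appTop).hom)
    (x₀ : 𝟙_ (Over (Spec (CommRingCat.of k))) ⟶ X) (f : X ⟶ Z) : f = toUnit X ≫ x₀ ≫ f := by
  have : IsIso (toUnit X).left.appTop := by
    have : IsIso ((Scheme.ΓSpecIso (CommRingCat.of k)).inv ≫ X.hom.appTop) :=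
      (ConcreteCategory.isIso_iff_bijective _).2 hX
    rw [Over.toUnit_left]
    exact IsIso.of_isIso_comp_left (Scheme.ΓSpecIso (CommRingCat.of k)).inv _
  obtain ⟨g, hg⟩ := exists_factor (toUnit X) f
  have : x₀ ≫ f = g := by
    rw [← hg, ← Category.assoc, show x₀ ≫ toUnit X = 𝟙 _ from toUnit_unique _ _, Category.id_comp]
  rw [this, hg]

end Groth.Agent.AffHull
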