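import Groth.Agent.S16480
import Groth.Agent.FinHopf.GrpScheme
import Groth.Agent.S4106
import Groth.Prelude.Def_FrameBundle
import Groth.Prelude.Def_CoactBr2

/-!
# Linear representations and anti-affine groups

An affine algebraic group over a field embeds in some general linear group, so a group of finite type is
anti-affine exactly when its linear representations are trivial.
-/

set_option autoImplicit false

universe u

noncomputable section

open CategoryTheory CategoryTheory.Limits MonoidalCategory CartesianMonoidalCategory MonObj GrpObj AlgebraicGeometry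
open scoped TensorProduct

namespace Groth.Agent.AffHull

attribute [-instance] ULift.smulLeft ULift.module

variable {k : Type u} [Field k]


/-- The coordinate ring of an affine algebraic group is a bialgebra quotient of the universal `GL_n`. -/
theorem exists_surj_bc (A : Type u) [CommRing A] [HopfAlgebra k A] [Algebra.FiniteType k A]
    [Algebra (ULift.{u} ℤ) k] : ∃ (n : ℕ) (φ : k ⊗[ULift.{u} ℤ] CoordGrp.GLn n (ULift.{u} ℤ) →ₐc[k] A), Function.Surjective φ := by
  obtain ⟨n, π, hπ⟩ := S16480.result k A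
  letI : Algebra (ULift.{u} ℤ) A := ((algebraMap k A).comp (algebraMap (ULift.{u} ℤ) k)).toAlgebra
  haveI : IsScalarTower (ULift.{u} ℤ) k A := .of_algebraMap_eq' rfl
  let M : Matrix (Fin n) (Fin n) A := fun i j => π (CoordGrp.GLn.X i j)
  have hM : M.det * π CoordGrp.GLn.Dinv = 1 := by
    have : M = (π : CoordGrp.GLn n k →ₐ[k] A).mapMatrix (CoordGrp.GLn.genMat n k) := rfl
    rw [this, ← AlgHom.map_det, ← CoordGrp.GLn.det_eq]
    change π _ * π _ = 1
    rw [← map_mul, CoordGrp.GLn.det_mul_Dinv, map_one]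
  let mu0 : CoordGrp.GLn n (ULift.{u} ℤ) →ₐ[ULift.{u} ℤ] A := CoordGrp.GLn.pt (n := n) (k := ULift.{u} ℤ) M (π CoordGrp.GLn.Dinv) hM
  let ψ : k ⊗[ULift.{u} ℤ] CoordGrp.GLn n (ULift.{u} ℤ) →ₐ[k] A :=
    Algebra.TensorProduct.lift (Algebra.ofId k A) mu0 fun _ _ => Commute.all _ _
  have hψ : ∀ h, ψ (1 ⊗ₜ[ULift.{u} ℤ] h) = mu0 h := fun h => by simp [ψ]
  have hX : ∀ i j, ψ (1 ⊗ₜ[ULift.{u} ℤ] CoordGrp.GLn.X i j) = π (CoordGrp.GLn.X i j) := fun i j =>
    (hψ _).trans (CoordGrp.GLn.pt_X _ _ _ i j)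
  have hD : ψ (1 ⊗ₜ[ULift.{u} ℤ] CoordGrp.GLn.Dinv) = π CoordGrp.GLn.Dinv :=
    (hψ _).trans (CoordGrp.GLn.pt_Dinv _ _ _)
  have e1 : (Bialgebra.counitAlgHom k A).comp ψ =
      Bialgebra.counitAlgHom k (k ⊗[ULift.{u} ℤ] CoordGrp.GLn n (ULift.{u} ℤ)) := by
    apply Algebra.TensorProduct.ext
    · ext
    · apply CoordGrp.GLn.algHom_ext
      · intro i j
        change CoalgebraStruct.counit (R := k) (ψ (1 ⊗ₜ[ULift.{u} ℤ] CoordGrp.GLn.X i j)) =
          CoalgebraStruct.counit (R := k) ((1 : k) ⊗ₜ[ULift.{u} ℤ] (CoordGrp.GLn.X i j : CoordGrp.GLn n (ULift.{u} ℤ)))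
        rw [hX, CoalgHomClass.counit_comp_apply π, CoordGrp.GLn.counit_X]
        simp [CoordGrp.GLn.counit_X]
        split_ifs <;> simp [Algebra.smul_def]
      · change CoalgebraStruct.counit (R := k) (ψ (1 ⊗ₜ[ULift.{u} ℤ] CoordGrp.GLn.Dinv)) =
          CoalgebraStruct.counit (R := k) ((1 : k) ⊗ₜ[ULift.{u} ℤ] (CoordGrp.GLn.Dinv : CoordGrp.GLn n (ULift.{u} ℤ)))
        rw [hD, CoalgHomClass.counit_comp_apply π, CoordGrp.GLn.counit_Dinv]
        simp [CoordGrp.GLn.counit_Dinv, Algebra.smul_def]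
  have e2 : (Algebra.TensorProduct.map ψ ψ).comp
        (Bialgebra.comulAlgHom k (k ⊗[ULift.{u} ℤ] CoordGrp.GLn n (ULift.{u} ℤ))) =
      (Bialgebra.comulAlgHom k A).comp ψ := by
    apply Algebra.TensorProduct.ext
    · ext
    · apply CoordGrp.GLn.algHom_ext
      · intro i j
        change Algebra.TensorProduct.map ψ ψ (CoalgebraStruct.comul (R := k)
            ((1 : k) ⊗ₜ[ULift.{u} ℤ] (CoordGrp.GLn.X i j : CoordGrp.GLn n (ULift.{u} ℤ)))) =
          CoalgebraStruct.comul (R := k) (ψ (1 ⊗ₜ[ULift.{u} ℤ] CoordGrp.GLn.X i j))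
        rw [hX, ← CoalgHomClass.map_comp_comul_apply π, CoordGrp.GLn.comul_X]
        simp [CoordGrp.GLn.comul_X, TensorProduct.tmul_sum, hX]
      · change Algebra.TensorProduct.map ψ ψ (CoalgebraStruct.comul (R := k)
            ((1 : k) ⊗ₜ[ULift.{u} ℤ] (CoordGrp.GLn.Dinv : CoordGrp.GLn n (ULift.{u} ℤ)))) =
          CoalgebraStruct.comul (R := k) (ψ (1 ⊗ₜ[ULift.{u} ℤ] CoordGrp.GLn.Dinv))
        rw [hD, ← CoalgHomClass.map_comp_comul_apply π, CoordGrp.GLn.comul_Dinv]
        simp [CoordGrp.GLn.comul_Dinv, hD]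
  refine ⟨n, BialgHom.ofAlgHom ψ e1 e2, ?_⟩
  change Function.Surjective ψ
  intro a
  obtain ⟨b, rfl⟩ := hπ a
  have hle : ⊤ ≤ ψ.range.comap (π : CoordGrp.GLn n k →ₐ[k] A) := by
    have key : ∀ q : MvPolynomial (CoordGrp.GLPoly.Idx n) k, π (CoordGrp.GLn.mk n k q) ∈ ψ.range := by
      intro q
      induction q using MvPolynomial.induction_on with
      | C a => exact ⟨algebraMap k _ a, (ψ.commutes a).trans
          ((AlgHom.commutes ((π : CoordGrp.GLn n k →ₐ[k] A).comp (CoordGrp.GLn.mk n k)) a).symm)⟩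
      | add p q hp hq =>
        exact Eq.subst (motive := fun z => z ∈ ψ.range)
          (map_add ((π : CoordGrp.GLn n k →ₐ[k] A).comp (CoordGrp.GLn.mk n k)) (p : CoordGrp.GLb n k)
            (q : CoordGrp.GLb n k)).symm (add_mem hp hq)
      | mul_X p s hp =>
        have hm := map_mul ((π : CoordGrp.GLn n k →ₐ[k] A).comp (CoordGrp.GLn.mk n k))
          (p : CoordGrp.GLb n k) (MvPolynomial.X s : MvPolynomial (CoordGrp.GLPoly.Idx n) k)
        refine Eq.subst (motive := fun z => z ∈ ψ.range) hm.symm (mul_mem hp ?_)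
        rcases s with ⟨i, j⟩ | ⟨⟩
        · exact ⟨1 ⊗ₜ CoordGrp.GLn.X i j, hX i j⟩
        · exact ⟨1 ⊗ₜ CoordGrp.GLn.Dinv, hD⟩
    intro b _
    obtain ⟨q, rfl⟩ := Ideal.Quotient.mk_surjective b
    exact key q
  exact hle (Algebra.mem_top : b ∈ (⊤ : Subalgebra k _))

/-- An affine group scheme of finite type over a field is a closed subgroup of some `GL_n`. -/
theorem exists_closedImmersion_GLn (P : Over (Spec (CommRingCat.of k))) [GrpObj P] [IsAffine P.left]
    [LocallyOfFiniteType P.hom] :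
    ∃ (n : ℕ) (j : P ⟶ FrB.GLn n (Spec (CommRingCat.of k))), IsMonHom j ∧ IsClosedImmersion j.left := by
  obtain ⟨A, _, e, he⟩ := FinHopf.exists_hopf (R := CommRingCat.of k) P
  haveI : IsIso e.hom.left := inferInstanceAs (IsIso ((Over.forget _).map e.hom))
  haveI : IsIso e.inv.left := inferInstanceAs (IsIso ((Over.forget _).map e.inv))
  have hfin : (algebraMap k A).FiniteType := by
    have h0 : LocallyOfFiniteType (e.hom.left ≫ P.hom) := inferInstance
    rw [Over.w e.hom] at h0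
    exact (HasRingHomProperty.Spec_iff (P := @LocallyOfFiniteType)).1 h0
  haveI : Algebra.FiniteType k A := RingHom.finiteType_algebraMap.1 hfin
  letI : Algebra (ULift.{u} ℤ) k := ((Int.castRingHom k).comp ULift.ringEquiv.toRingHom).toAlgebra
  obtain ⟨n, φ, hφ⟩ := exists_surj_bc (k := k) A
  let m := (hopfSpec (CommRingCat.of k)).map (CommHopfAlgCat.ofHom φ).op
  let v : (Spec A).asOver (Spec (CommRingCat.of k)) ⟶
      CoactBr.sp k (k ⊗[ULift.{u} ℤ] CoordGrp.GLn n (ULift.{u} ℤ)) := m.hom.hom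
  haveI : IsMonHom v := m.hom.isMonHom_hom
  haveI : IsClosedImmersion v.left := IsClosedImmersion.spec_of_surjective _ hφ
  let E := CoactBr.bcIso (ULift.{u} ℤ) k (CoordGrp.GLn n (ULift.{u} ℤ))
  have hf : IsTerminal.from specULiftZIsTerminal (Spec (CommRingCat.of k)) =
      Spec.map (CommRingCat.ofHom (algebraMap (ULift.{u} ℤ) k)) := specULiftZIsTerminal.hom_ext _ _
  change ∃ (n : ℕ) (j : P ⟶ Red.bc (IsTerminal.from specULiftZIsTerminal _) (FrB.GLZ n)),
    IsMonHom j ∧ IsClosedImmersion j.left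
  rw [hf]
  haveI : IsMonHom E.hom := CoactBr.bcIso_isMonHom (ULift.{u} ℤ) k (CoordGrp.GLn n (ULift.{u} ℤ))
  haveI : IsIso E.inv.left := inferInstanceAs (IsIso ((Over.forget _).map E.inv))
  refine ⟨n, e.inv ≫ v ≫ E.inv, inferInstance, ?_⟩
  rw [Over.comp_left, Over.comp_left]
  infer_instance

/-- A group of finite type over a field is anti-affine iff all its linear representations are trivial. -/
theorem bijective_iff_forall_hom_GLn (G : Over (Spec (CommRingCat.of k))) [GrpObj G]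
    [LocallyOfFiniteType G.hom] [QuasiCompact G.hom] :
    Function.Bijective ((Scheme.ΓSpecIso (CommRingCat.of k)).inv ≫ G.hom.appTop).hom ↔
      ∀ (n : ℕ) (ρ : G ⟶ FrB.GLn n (Spec (CommRingCat.of k))), IsMonHom ρ → ρ = 1 := by
  haveI : IsSeparated G.hom := GrpField.isSeparated_hom G
  haveI : G.left.IsSeparated := ⟨by
    rw [Subsingleton.elim (terminal.from G.left) (G.hom ≫ terminal.from _)]; infer_instance⟩
  haveI : CompactSpace G.left := QuasiCompact.compactSpace_of_compactSpace G.hom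
  constructor
  · intro hG n ρ hρ
    haveI : IsAffine (FrB.GLZ.{u} n).left := inferInstanceAs (IsAffine (Spec _))
    haveI : IsAffineHom (FrB.GLZ.{u} n).hom := isAffineHom_of_isAffine _
    haveI : IsAffine (FrB.GLn n (Spec (CommRingCat.of k))).left :=
      inferInstanceAs (IsAffine (pullback (FrB.GLZ n).hom _))
    rw [eq_const_of_affine hG η[G] ρ, IsMonHom.one_hom]
    rfl
  · intro h
    obtain ⟨inst, hmon⟩ := exists_grpObj G
    haveI : LocallyOfFiniteType (hull G).hom := (S4106.result k G).2.2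
    obtain ⟨n, j, hj, hjc⟩ := exists_closedImmersion_GLn (hull G)
    have h0 := h n (toHull G ≫ j) inferInstance
    haveI : Mono j.left := inferInstance
    haveI : Mono j := Over.mono_of_mono_left j
    have ht : toHull G = 1 := by
      rw [← cancel_mono j, h0, MonObj.one_comp]
    simp only [← ConcreteCategory.isIso_iff_bijective, isIso_comp_left_iff]
    have hm : IsSplitMono G.hom.appTop := ⟨⟨η[G].left.appTop, by
      rw [← Scheme.Hom.comp_appTop, Over.w η[G]]; rfl⟩⟩
    have he : IsSplitEpi G.hom.appTop := ⟨⟨inv (toHull G).left.appTop ≫ η[hull G].left.appTop, by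
      rw [Category.assoc, IsIso.inv_comp_eq, Category.comp_id, ← Scheme.Hom.comp_appTop, ht]
      rfl⟩⟩
    exact isIso_of_mono_of_isSplitEpi _

end Groth.Agent.AffHull
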