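import Groth.Agent.AffHull.LinAct
import Groth.Prelude.Def_VecGrp

/-!
# Module structures of anti-affine groups
-/

set_option autoImplicit false

universe u

noncomputable section

open CategoryTheory CategoryTheory.Limits MonoidalCategory CartesianMonoidalCategory MonObj GrpObj AlgebraicGeometry
open scoped TensorProduct

namespace Groth.Agent.AffHull

variable {k : Type u} [Field k]

theorem fn_id (A : CommRingCat.{u}) (x : A) : fn (𝟙 (Spec A)) x = (Scheme.ΓSpecIso A).inv x := by
  simp [fn]

theorem fn_specMap {A B : CommRingCat.{u}} (f : A ⟶ B) (x : A) :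
    fn (Spec.map f) x = (Scheme.ΓSpecIso B).inv (f x) := by
  rw [← Category.id_comp (Spec.map f), fn_map, fn_id]

variable {G : Over (Spec (CommRingCat.of k))}

/-- The algebra structure on the sections over an affine open. -/
@[implicit_reducible]
def secAlg {U : G.left.Opens} (hU : IsAffineOpen U) : Algebra k Γ(G.left, U) :=
  (Spec.preimage (hU.fromSpec ≫ G.hom)).hom.toAlgebra

/-- The tautological point over an affine open. -/
def secPt {U : G.left.Opens} (hU : IsAffineOpen U) :
    letI := secAlg hU; VecGrp.pt k Γ(G.left, U) ⟶ G :=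
  letI := secAlg hU
  Over.homMk hU.fromSpec (Spec.map_preimage _).symm

/-- The matrix of a point in a basis. -/
def gmat [GrpObj G] {M : Type u} [AddCommGroup M] [Module k M] {σ : Type u} (b : Module.Basis σ k M)
    (m : VecGrp.GMod G M) (B : Type u) [CommRing B] [Algebra k B] (g : VecGrp.pt k B ⟶ G) (i j : σ) : B :=
  (Algebra.TensorProduct.basis B b).repr (m.ρ B g ((1 : B) ⊗ₜ[k] b j)) i

theorem gmat_map [GrpObj G] {M : Type u} [AddCommGroup M] [Module k M] {σ : Type u} (b : Module.Basis σ k M)
    (m : VecGrp.GMod G M) {B B' : Type u} [CommRing B] [Algebra k B] [CommRing B'] [Algebra k B']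
    (φ : B →ₐ[k] B') (g : VecGrp.pt k B ⟶ G) (i j : σ) :
    gmat b m B' (VecGrp.ptMap φ ≫ g) i j = φ (gmat b m B g i j) := by
  have h := m.naturality φ g ((1 : B) ⊗ₜ[k] b j)
  rw [VecGrp.Wmap_tmul, _root_.map_one] at h
  rw [gmat, gmat, ← h]
  generalize m.ρ B g ((1 : B) ⊗ₜ[k] b j) = x
  induction x using TensorProduct.induction_on with
  | zero => simp
  | tmul c v => simp [VecGrp.Wmap_tmul, Algebra.smul_def]
  | add x y hx hy => simp only [map_add, Finsupp.add_apply, hx, hy]

theorem eq_one_of_gmat [GrpObj G] {M : Type u} [AddCommGroup M] [Module k M] {σ : Type u} [DecidableEq σ]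
    (b : Module.Basis σ k M) (m : VecGrp.GMod G M) (B : Type u) [CommRing B] [Algebra k B]
    (g : VecGrp.pt k B ⟶ G) (h : ∀ i j, gmat b m B g i j = if i = j then 1 else 0) : m.ρ B g = 1 := by
  refine LinearEquiv.toLinearMap_injective ((Algebra.TensorProduct.basis B b).ext fun j => ?_)
  apply (Algebra.TensorProduct.basis B b).repr.injective
  ext i
  change (Algebra.TensorProduct.basis B b).repr (m.ρ B g (Algebra.TensorProduct.basis B b j)) i =
    (Algebra.TensorProduct.basis B b).repr (Algebra.TensorProduct.basis B b j) i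
  rw [Algebra.TensorProduct.basis_apply]
  refine (h i j).trans ?_
  rw [← Algebra.TensorProduct.basis_apply, Module.Basis.repr_self, Finsupp.single_apply]
  simp [eq_comm]

/-- An element vanishing in a localisation away from a function outside each prime is zero. -/
theorem eq_zero_of_locally {B : Type u} [CommRing B] (x : B)
    (h : ∀ p : PrimeSpectrum B, ∃ f : B, f ∉ p.asIdeal ∧ algebraMap B (Localization.Away f) x = 0) :
    x = 0 := by
  by_contra hx
  obtain ⟨q, hq, hle⟩ := Ideal.exists_le_maximal (LinearMap.ker (LinearMap.toSpanSingleton B B x))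
    (fun e => hx (by simpa using (Ideal.eq_top_iff_one _).1 e))
  obtain ⟨f, hf, hf0⟩ := h ⟨q, hq.isPrime⟩
  obtain ⟨⟨_, n, rfl⟩, hc⟩ := (IsLocalization.map_eq_zero_iff (Submonoid.powers f) _ x).1 hf0
  exact hf (hq.isPrime.mem_of_pow_mem n (hle (by simpa using hc)))

variable [GrpObj G]

/-- An anti-affine group has only trivial module structures of finite dimension. -/
theorem gmod_trivial [IsSeparated G.hom]
    (hG : Function.Bijective ((Scheme.ΓSpecIso (CommRingCat.of k)).inv ≫ G.hom.appTop).hom)
    {M : Type u} [AddCommGroup M] [Module k M] (m : VecGrp.GMod G M)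
    (B : Type u) [CommRing B] [Algebra k B] (g : VecGrp.pt k B ⟶ G) : m.ρ B g = 1 := by
  classical
  let b := Module.Free.chooseBasis k M
  haveI : G.left.IsSeparated := ⟨by
    rw [Subsingleton.elim (terminal.from G.left) (G.hom ≫ terminal.from _)]; infer_instance⟩
  refine eq_one_of_gmat b m B g fun i j => ?_
  -- the matrix entries on the affine opens
  let s : ∀ U : G.left.affineOpens, Γ(G.left, U.1) := fun U =>
    letI := secAlg U.2; gmat b m Γ(G.left, U.1) (secPt U.2) i j
  have hres : ∀ (U V : G.left.affineOpens) (h : V.1 ≤ U.1),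
      G.left.presheaf.map (homOfLE h).op (s U) = s V := by
    intro U V h
    letI := secAlg U.2
    letI := secAlg V.2
    let φ : Γ(G.left, U.1) →ₐ[k] Γ(G.left, V.1) :=
      { toRingHom := (G.left.presheaf.map (homOfLE h).op).hom
        commutes' := fun c => by
          have e : Spec.preimage (U.2.fromSpec ≫ G.hom) ≫ G.left.presheaf.map (homOfLE h).op =
              Spec.preimage (V.2.fromSpec ≫ G.hom) := by
            apply Spec.map_injective
            rw [Spec.map_comp, Spec.map_preimage, Spec.map_preimage, U.2.map_fromSpec_assoc V.2]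
          exact congr($(e) c) }
    have hp : VecGrp.ptMap φ ≫ secPt U.2 = secPt V.2 :=
      Over.OverMorphism.ext (U.2.map_fromSpec V.2 (homOfLE h).op)
    change φ (gmat b m _ (secPt U.2) i j) = gmat b m _ (secPt V.2) i j
    rw [← gmat_map, hp]
  obtain ⟨a, ha, -⟩ := TopCat.Sheaf.existsUnique_gluing' G.left.sheaf
    (fun U : G.left.affineOpens => U.1) ⊤ (fun U => homOfLE le_top)
    (le_of_eq (iSup_affineOpens_eq_top _).symm) s (fun U V => by
      have hUV : IsAffineOpen (U.1 ⊓ V.1) := U.2.inf V.2
      exact (hres U ⟨_, hUV⟩ inf_le_left).trans (hres V ⟨_, hUV⟩ inf_le_right).symm)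
  obtain ⟨c, hc⟩ := hG.2 a
  have hs : ∀ U : G.left.affineOpens, letI := secAlg U.2; s U = algebraMap k Γ(G.left, U.1) c := by
    intro U
    letI := secAlg U.2
    rw [← ha U, ← hc]
    apply (ConcreteCategory.bijective_of_isIso (Scheme.ΓSpecIso Γ(G.left, U.1)).inv).1
    refine (fn_specMap _ _).symm.trans ?_
    change _ = (Scheme.ΓSpecIso Γ(G.left, U.1)).inv (Spec.preimage (U.2.fromSpec ≫ G.hom) c)
    rw [← fn_specMap, Spec.map_preimage]
    change fn (Spec.map (G.left.presheaf.map (homOfLE le_top).op)) _ = _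
    rw [← U.2.fromSpec_toSpecΓ, fn_comp, fn_comp]
    congr 1
    simp only [fn, Scheme.toSpecΓ_appTop, Iso.inv_hom_id]
    rfl
  have hloc : ∀ (B : Type u) [CommRing B] [Algebra k B] (g : VecGrp.pt k B ⟶ G),
      gmat b m B g i j = algebraMap k B c := by
    intro B _ _ g
    rw [← sub_eq_zero]
    refine eq_zero_of_locally _ fun p => ?_
    obtain ⟨_, ⟨U, hU, rfl⟩, hxU, -⟩ := G.left.isBasis_affineOpens.exists_subset_of_mem_open
      (Set.mem_univ (g.left.base p)) isOpen_univ
    obtain ⟨_, ⟨f, rfl⟩, hpf, hfU⟩ := PrimeSpectrum.isTopologicalBasis_basic_opens.exists_subset_of_mem_open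
      (u := (g.left ⁻¹ᵁ U).carrier) hxU (g.left ⁻¹ᵁ U).2
    refine ⟨f, hpf, ?_⟩
    letI := secAlg hU
    let L := CommRingCat.of (Localization.Away f)
    let l : Spec L ⟶ Spec (CommRingCat.of B) := Spec.map (CommRingCat.ofHom (algebraMap B (Localization.Away f)))
    have hrange : Set.range (l ≫ g.left).base ⊆ Set.range hU.fromSpec.base := by
      rw [hU.range_fromSpec]
      rintro _ ⟨q, rfl⟩
      refine hfU ?_
      have : l.base q ∈ Set.range (PrimeSpectrum.comap (algebraMap B (Localization.Away f))) := ⟨q, rfl⟩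
      rwa [PrimeSpectrum.localization_away_comap_range (Localization.Away f) f] at this
    haveI : IsOpenImmersion hU.fromSpec := hU.isOpenImmersion_fromSpec
    let w := IsOpenImmersion.lift hU.fromSpec (l ≫ g.left) hrange
    have hw : w ≫ hU.fromSpec = l ≫ g.left := IsOpenImmersion.lift_fac _ _ _
    let ψ : Γ(G.left, U) →ₐ[k] Localization.Away f :=
      { toRingHom := (Spec.preimage w).hom
        commutes' := fun x => by
          have e : Spec.preimage (hU.fromSpec ≫ G.hom) ≫ Spec.preimage w =
              CommRingCat.ofHom (algebraMap k (Localization.Away f)) := by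
            apply Spec.map_injective
            rw [Spec.map_comp, Spec.map_preimage, Spec.map_preimage, reassoc_of% hw, Over.w g]
            change Spec.map _ ≫ Spec.map _ = _
            rw [← Spec.map_comp]
            rfl
          exact congr($(e) x) }
    let φ : B →ₐ[k] Localization.Away f := IsScalarTower.toAlgHom k B _
    have hp : VecGrp.ptMap φ ≫ g = VecGrp.ptMap ψ ≫ secPt hU :=
      Over.OverMorphism.ext (hw.symm.trans (congrArg (· ≫ hU.fromSpec) (Spec.map_preimage w).symm))
    change φ (_ - _) = 0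
    rw [map_sub, ← gmat_map, hp, gmat_map, AlgHom.commutes, sub_eq_zero]
    change ψ (s ⟨U, hU⟩) = _
    rw [hs ⟨U, hU⟩]
    exact ψ.commutes c
  have h1 := hloc k (1 : VecGrp.pt k k ⟶ G)
  have h2 : gmat b m k (1 : VecGrp.pt k k ⟶ G) i j = if i = j then 1 else 0 := by
    rw [gmat, _root_.map_one, LinearEquiv.coe_one, id_eq, ← Algebra.TensorProduct.basis_apply,
      Module.Basis.repr_self, Finsupp.single_apply]
    simp [eq_comm]
  rw [hloc B g, ← show (if i = j then (1 : k) else 0) = c from h2.symm.trans h1]
  split_ifs <;> simp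

/-- The module structure of a multiplicative matrix of functions. -/
def MatRep.gmod {n : ℕ} (ρ : MatRep G n) : VecGrp.GMod G (Fin n → k) where
  ρ B _ _ :=
    let Q : (VecGrp.pt k B ⟶ G) → Matrix (Fin n) (Fin n) B := fun g =>
      (ρ.R g).map (Scheme.ΓSpecIso (CommRingCat.of B)).hom.hom
    have hmul : ∀ g h, Q (g * h) = Q g * Q h := fun g h => by
      simp only [Q, ρ.map_mul]; exact Matrix.map_mul
    have hone : Q 1 = 1 := by
      simp only [Q, ρ.map_one]; exact Matrix.map_one _ (_root_.map_zero _) (_root_.map_one _)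
    let e := TensorProduct.piScalarRight k B B (Fin n)
    { toFun := fun g => (e.trans (Matrix.toLin'OfInv
          (show Q g⁻¹ * Q g = 1 by rw [← hmul, inv_mul_cancel, hone])
          (show Q g * Q g⁻¹ = 1 by rw [← hmul, mul_inv_cancel, hone]))).trans e.symm
      map_one' := by
        refine LinearEquiv.ext fun x => e.injective ?_
        simp [Matrix.toLin'OfInv, hone]
      map_mul' := fun g h => by
        refine LinearEquiv.ext fun x => e.injective ?_
        simp [Matrix.toLin'OfInv, hmul, Matrix.mulVec_mulVec] }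
  naturality {B B'} _ _ _ _ φ g x := by
    have he : ∀ y, TensorProduct.piScalarRight k B' B' (Fin n) (VecGrp.Wmap φ y) =
        fun i => φ (TensorProduct.piScalarRight k B B (Fin n) y i) := by
      intro y
      induction y using TensorProduct.induction_on with
      | zero => funext i; simp
      | tmul c v => funext i; simp [VecGrp.Wmap_tmul, Algebra.smul_def]
      | add x y hx hy => funext i; simp [map_add, hx, hy]
    apply (TensorProduct.piScalarRight k B' B' (Fin n)).injective
    funext i
    rw [he]
    simp [Matrix.toLin'OfInv, he, ρ.natural, Matrix.mulVec, dotProduct, map_sum]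
    refine Finset.sum_congr rfl fun j _ => congrArg (· * _) ?_
    exact (congr($(Scheme.ΓSpecIso_naturality (CommRingCat.ofHom φ.toRingHom)) (ρ.R g i j))).symm

/-- If all module structures of finite dimension are trivial, the group is anti-affine. -/
theorem bijective_of_gmod_trivial [LocallyOfFiniteType G.hom] [QuasiCompact G.hom]
    (H : ∀ (n : ℕ) (m : VecGrp.GMod G (Fin n → k)) (B : Type u) [CommRing B] [Algebra k B]
      (g : VecGrp.pt k B ⟶ G), m.ρ B g = 1) :
    Function.Bijective ((Scheme.ΓSpecIso (CommRingCat.of k)).inv ≫ G.hom.appTop).hom := by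
  refine bijective_of_matRep_trivial G fun n ρ => ?_
  ext i j
  refine TopCat.Sheaf.eq_of_locally_eq' G.left.sheaf (fun U : G.left.affineOpens => U.1) ⊤
    (fun U => homOfLE le_top) (le_of_eq (iSup_affineOpens_eq_top _).symm) _ _ fun U => ?_
  letI := secAlg U.2
  have h := H n ρ.gmod Γ(G.left, U.1) (secPt U.2)
  have h1 : ∀ j, TensorProduct.piScalarRight k Γ(G.left, U.1) Γ(G.left, U.1) (Fin n)
      (ρ.gmod.ρ _ (secPt U.2) (1 ⊗ₜ[k] Pi.single j 1)) = Pi.single j 1 := fun j => by
    rw [h]; funext i; simp [Pi.single_apply]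
  have h2 := congrFun (h1 j) i
  simp [MatRep.gmod, Matrix.toLin'OfInv, Pi.single_apply, Matrix.mulVec, dotProduct] at h2
  have h3 : (Scheme.ΓSpecIso Γ(G.left, U.1)).hom ((secPt U.2).left.appTop (ρ.R (𝟙 G) i j)) =
      if i = j then 1 else 0 := by
    rw [← h2, ← Category.comp_id (secPt U.2), ρ.natural, Category.comp_id]
    rfl
  have h4 : ∀ a : Γ(G.left, ⊤), (Scheme.ΓSpecIso Γ(G.left, U.1)).hom ((secPt U.2).left.appTop a) =
      G.left.presheaf.map (homOfLE le_top).op a := by
    intro a
    have := congr($(congrArg Scheme.Hom.appTop U.2.fromSpec_toSpecΓ) ((Scheme.ΓSpecIso Γ(G.left, ⊤)).inv a))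
    simp only [Scheme.Hom.comp_appTop, Scheme.toSpecΓ_appTop, Iso.inv_hom_id_assoc,
      CommRingCat.comp_apply, Iso.inv_hom_id_apply] at this
    rw [show (secPt U.2).left = U.2.fromSpec from rfl, this]
    exact congr($(Scheme.ΓSpecIso_naturality (G.left.presheaf.map (homOfLE le_top).op))
      ((Scheme.ΓSpecIso Γ(G.left, ⊤)).inv a)).trans (by simp)
  rw [h4] at h3
  refine h3.trans ?_
  rw [Matrix.one_apply]
  change _ = (G.left.presheaf.map (homOfLE le_top).op).hom _
  split_ifs
  · exact (_root_.map_one _).symm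
  · exact (_root_.map_zero _).symm

end Groth.Agent.AffHull
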