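import Groth.Agent.AffHull.GLn
import Groth.Agent.AntiAffRig.Basic
import Mathlib.AlgebraicGeometry.AffineSpace

/-!
# Linear actions on affine space

A matrix of functions multiplicative on points gives a linear action on affine space; applied to the affine
hull this characterises anti-affine groups by actions with a fixed point.
-/

set_option autoImplicit false

universe u

noncomputable section

open CategoryTheory CategoryTheory.Limits MonoidalCategory CartesianMonoidalCategory MonObj GrpObj AlgebraicGeometry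
open scoped TensorProduct

namespace Groth.Agent.AffHull

/-- The functions of a point of an affine scheme. -/
def fn {A : CommRingCat.{u}} {T : Scheme.{u}} (m : T ⟶ Spec A) : A →+* Γ(T, ⊤) :=
  ((Scheme.ΓSpecIso A).inv ≫ m.appTop).hom

theorem fn_comp {A : CommRingCat.{u}} {T T' : Scheme.{u}} (t : T' ⟶ T) (m : T ⟶ Spec A) (x : A) :
    fn (t ≫ m) x = t.appTop (fn m x) := rfl

theorem fn_map {A B : CommRingCat.{u}} {T : Scheme.{u}} (m : T ⟶ Spec B) (f : A ⟶ B) (x : A) :
    fn (m ≫ Spec.map f) x = fn m (f x) := by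
  have h := congr($(Scheme.ΓSpecIso_inv_naturality f) x)
  simp only [CommRingCat.comp_apply] at h
  simp only [fn, Scheme.Hom.comp_appTop, CommRingCat.hom_comp, RingHom.comp_apply]
  exact (congrArg (fun z => m.appTop z) h).symm

theorem fn_injective {A : CommRingCat.{u}} {T : Scheme.{u}} {m m' : T ⟶ Spec A}
    (h : ∀ x, fn m x = fn m' x) : m = m' := by
  apply ext_of_isAffine
  ext x
  obtain ⟨y, rfl⟩ := (ConcreteCategory.bijective_of_isIso (Scheme.ΓSpecIso A).inv).2 x
  exact h y

variable {k : Type u} [Field k] {A : Type u} [CommRing A] [HopfAlgebra k A]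

/-- The functions of a product of two points. -/
theorem exists_fn_mul {T : Over (Spec (CommRingCat.of k))} (a b : T ⟶ (Spec (CommRingCat.of A)).asOver (Spec (CommRingCat.of k))) :
    ∃ Φ : A ⊗[k] A →+* Γ(T.left, ⊤), (∀ x y, Φ (x ⊗ₜ y) = fn a.left x * fn b.left y) ∧
      ∀ x, fn (a * b).left x = Φ (CoalgebraStruct.comul (R := k) x) := by
  let z : T.left ⟶ Spec (CommRingCat.of (A ⊗[k] A)) :=
    (lift a b).left ≫ (pullbackSpecIso k A A).hom
  refine ⟨fn z, fun x y => ?_, fun x => ?_⟩
  · have h1 : fn z (x ⊗ₜ 1) = fn a.left x := by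
      have h : z ≫ Spec.map (CommRingCat.ofHom Algebra.TensorProduct.includeLeftRingHom) = a.left := by
        exact (Category.assoc _ _ _).trans ((congrArg ((lift a b).left ≫ ·)
          (pullbackSpecIso_hom_fst k A A)).trans (congrArg CommaMorphism.left (lift_fst a b)))
      rw [← h, fn_map]
      rfl
    have h2 : fn z (1 ⊗ₜ y) = fn b.left y := by
      have h : z ≫ Spec.map (CommRingCat.ofHom Algebra.TensorProduct.includeRight.toRingHom) = b.left := by
        exact (Category.assoc _ _ _).trans ((congrArg ((lift a b).left ≫ ·)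
          (pullbackSpecIso_hom_snd k A A)).trans (congrArg CommaMorphism.left (lift_snd a b)))
      rw [← h, fn_map]
      rfl
    rw [← h1, ← h2, ← map_mul, Algebra.TensorProduct.tmul_mul_tmul, _root_.mul_one, _root_.one_mul]
  · have h : (a * b).left = z ≫ Spec.map (CommRingCat.ofHom (Bialgebra.comulAlgHom k A)) := by
      rw [Hom.mul_def, Over.comp_left, mul_spec_asOver_spec_left]
      rfl
    rw [h, fn_map]
    rfl

/-- The functions of the unit point. -/
theorem fn_one {T : Over (Spec (CommRingCat.of k))} (x : A) :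
    fn ((1 : T ⟶ (Spec (CommRingCat.of A)).asOver (Spec (CommRingCat.of k)))).left x = fn T.hom (CoalgebraStruct.counit (R := k) x) := by
  have h : ((1 : T ⟶ (Spec (CommRingCat.of A)).asOver (Spec (CommRingCat.of k)))).left = T.hom ≫ Spec.map (CommRingCat.ofHom (Bialgebra.counitAlgHom k A)) := by
    rw [Hom.one_def, Over.comp_left, one_spec_asOver_spec_left, Over.toUnit_left]
    rfl
  rw [h, fn_map]
  rfl

/-- A multiplicative matrix of functions on a group. -/
structure MatRep (G : Over (Spec (CommRingCat.of k))) [GrpObj G] (n : ℕ) where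
  /-- the matrix at a point -/
  R : ∀ {T : Over (Spec (CommRingCat.of k))}, (T ⟶ G) → Matrix (Fin n) (Fin n) Γ(T.left, ⊤)
  map_mul : ∀ {T : Over (Spec (CommRingCat.of k))} (a b : T ⟶ G), R (a * b) = R a * R b
  map_one : ∀ {T : Over (Spec (CommRingCat.of k))}, R (1 : T ⟶ G) = 1
  natural : ∀ {T T' : Over (Spec (CommRingCat.of k))} (t : T' ⟶ T) (a : T ⟶ G),
    R (t ≫ a) = (R a).map t.left.appTop.hom

/-- Affine space over the field, as an object over it. -/
def affSpace (k : Type u) [Field k] (n : ℕ) : Over (Spec (CommRingCat.of k)) :=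
  Over.mk (AffineSpace (ULift.{u} (Fin n)) (Spec (CommRingCat.of k)) ↘ Spec (CommRingCat.of k))

/-- Coordinates of a point of affine space. -/
def crd {n : ℕ} {T : Over (Spec (CommRingCat.of k))} (x : T ⟶ affSpace k n) : Fin n → Γ(T.left, ⊤) :=
  fun i => x.left.appTop (AffineSpace.coord _ ⟨i⟩)

/-- The point with given coordinates. -/
def mkPt {n : ℕ} {T : Over (Spec (CommRingCat.of k))} (v : Fin n → Γ(T.left, ⊤)) : T ⟶ affSpace k n :=
  Over.homMk (AffineSpace.homOfVector T.hom (fun i => v i.down)) (AffineSpace.homOfVector_over _ _)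

theorem crd_mkPt {n : ℕ} {T : Over (Spec (CommRingCat.of k))} (v : Fin n → Γ(T.left, ⊤)) :
    crd (mkPt v) = v := funext fun i => AffineSpace.homOfVector_appTop_coord _ _ _

theorem crd_comp {n : ℕ} {T T' : Over (Spec (CommRingCat.of k))} (t : T' ⟶ T) (x : T ⟶ affSpace k n) :
    crd (t ≫ x) = fun i => t.left.appTop (crd x i) := rfl

theorem crd_injective {n : ℕ} {T : Over (Spec (CommRingCat.of k))} {x y : T ⟶ affSpace k n}
    (h : crd x = crd y) : x = y := by
  ext : 1
  exact AffineSpace.hom_ext ((Over.w x).trans (Over.w y).symm) fun i => congrFun h i.down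

namespace MatRep

variable {G : Over (Spec (CommRingCat.of k))} [GrpObj G] {n : ℕ} (ρ : MatRep G n)

/-- The action morphism. -/
def actHom : G ⊗ affSpace k n ⟶ affSpace k n :=
  mkPt ((ρ.R (fst G (affSpace k n))).mulVec (crd (snd G (affSpace k n))))

theorem crd_lift {T : Over (Spec (CommRingCat.of k))} (g : T ⟶ G) (x : T ⟶ affSpace k n) :
    crd (lift g x ≫ ρ.actHom) = (ρ.R g).mulVec (crd x) := by
  rw [crd_comp, actHom, crd_mkPt]
  funext i
  rw [← congrArg ρ.R (lift_fst g x), ρ.natural, ← congrArg crd (lift_snd g x), crd_comp]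
  exact RingHom.map_mulVec _ _ _ _

/-- The linear action. -/
def action : AlgGrp.Action G (affSpace k n) where
  act := ρ.actHom
  one_act := by
    apply crd_injective
    have h : η[G] ▷ affSpace k n = lift 1 (snd _ _) := by
      ext1
      · rw [lift_fst, whiskerRight_fst, Hom.one_def, toUnit_unique (toUnit _) (fst _ _)]
      · rw [lift_snd, whiskerRight_snd]
    rw [h, ρ.crd_lift, ρ.map_one, Matrix.one_mulVec, leftUnitor_hom]
  mul_act := by
    apply crd_injective
    let a := fst (G ⊗ G) (affSpace k n) ≫ fst G G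
    let b := fst (G ⊗ G) (affSpace k n) ≫ snd G G
    have h1 : μ[G] ▷ affSpace k n = lift (a * b) (snd _ _) := by
      ext1
      · rw [lift_fst, whiskerRight_fst, Hom.mul_def, ← comp_lift, lift_fst_snd, Category.comp_id]
      · rw [lift_snd, whiskerRight_snd]
    have h2 : (α_ G G (affSpace k n)).hom ≫ (G ◁ ρ.actHom) =
        lift a (lift b (snd _ _) ≫ ρ.actHom) := by
      ext1
      · simp [a]
      · rw [lift_snd, Category.assoc, whiskerLeft_snd, ← Category.assoc]
        congr 1
        ext1 <;> simp [b]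
    rw [h1, ρ.crd_lift, ρ.map_mul, reassoc_of% h2, ρ.crd_lift, ρ.crd_lift, Matrix.mulVec_mulVec]

theorem isFixedPt_zero : ρ.action.IsFixedPt (mkPt 0) := by
  intro T g
  apply crd_injective
  rw [show ρ.action.act = ρ.actHom from rfl, ρ.crd_lift, crd_comp, crd_mkPt]
  simp only [Pi.zero_apply, _root_.map_zero]
  exact Matrix.mulVec_zero _

theorem eq_one_of_trivial (h : ρ.action.act = snd G (affSpace k n)) {T : Over (Spec (CommRingCat.of k))}
    (g : T ⟶ G) : ρ.R g = 1 := by
  classical
  ext i j
  have := congrArg crd (lift_snd g (mkPt (k := k) (T := T) (Pi.single j 1)))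
  rw [← h, show ρ.action.act = ρ.actHom from rfl, ρ.crd_lift, crd_mkPt] at this
  have hi := congrFun this i
  rw [Matrix.mulVec_single_one] at hi
  rw [Matrix.one_apply]
  simpa [Matrix.col, Pi.single_apply, eq_comm] using hi

end MatRep

/-- If every multiplicative matrix of functions is trivial, the group is anti-affine. -/
theorem bijective_of_matRep_trivial (G : Over (Spec (CommRingCat.of k))) [GrpObj G]
    [LocallyOfFiniteType G.hom] [QuasiCompact G.hom]
    (H : ∀ (n : ℕ) (ρ : MatRep G n), ρ.R (𝟙 G) = 1) :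
    Function.Bijective ((Scheme.ΓSpecIso (CommRingCat.of k)).inv ≫ G.hom.appTop).hom := by
  have : IsSeparated G.hom := GrpField.isSeparated_hom G
  have : G.left.IsSeparated := ⟨by
    rw [Subsingleton.elim (terminal.from G.left) (G.hom ≫ terminal.from _)]; infer_instance⟩
  have : CompactSpace G.left := QuasiCompact.compactSpace_of_compactSpace G.hom
  obtain ⟨inst, hmon⟩ := exists_grpObj G
  have : LocallyOfFiniteType (hull G).hom := (S4106.result k G).2.2
  obtain ⟨A, _, e, he⟩ := FinHopf.exists_hopf (R := CommRingCat.of k) (hull G)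
  have : IsIso e.hom.left := inferInstanceAs (IsIso ((Over.forget _).map e.hom))
  have : IsIso e.inv.left := inferInstanceAs (IsIso ((Over.forget _).map e.inv))
  have hfin : (algebraMap k A).FiniteType := by
    have h0 : LocallyOfFiniteType (e.hom.left ≫ (hull G).hom) := inferInstance
    rw [Over.w e.hom] at h0
    exact (HasRingHomProperty.Spec_iff (P := @LocallyOfFiniteType)).1 h0
  have : Algebra.FiniteType k A := RingHom.finiteType_algebraMap.1 hfin
  obtain ⟨n, π, hπ⟩ := S16480.result k A
  let u : G ⟶ (Spec A).asOver (Spec (CommRingCat.of k)) := toHull G ≫ e.inv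
  have : IsMonHom u := inferInstanceAs (IsMonHom (toHull G ≫ e.inv))
  let ρ : MatRep G n :=
    { R := fun {T} g => Matrix.of fun i j => fn (g ≫ u).left (π (CoordGrp.GLn.X i j))
      map_mul := fun {T} a b => by
        obtain ⟨Φ, hΦ, hmul⟩ := exists_fn_mul (A := A) (a ≫ u) (b ≫ u)
        ext i j
        rw [Matrix.of_apply, MonObj.mul_comp, hmul, ← CoalgHomClass.map_comp_comul_apply π,
          CoordGrp.GLn.comul_X, _root_.map_sum, _root_.map_sum, Matrix.mul_apply]
        exact Finset.sum_congr rfl fun l _ => hΦ _ _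
      map_one := fun {T} => by
        ext i j
        rw [Matrix.of_apply, MonObj.one_comp, fn_one, CoalgHomClass.counit_comp_apply π,
          CoordGrp.GLn.counit_X, Matrix.one_apply]
        split_ifs <;> simp
      natural := fun {T T'} t a => by
        ext i j
        rfl }
  have hR := H n ρ
  have hu : u = 1 := by
    ext : 1
    apply fn_injective
    intro x
    letI : Algebra k Γ(G.left, ⊤) := (fn G.hom).toAlgebra
    let F : (G ⟶ (Spec A).asOver (Spec (CommRingCat.of k))) → (CoordGrp.GLn n k →ₐ[k] Γ(G.left, ⊤)) :=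
      fun v =>
        { toRingHom := (fn v.left).comp (π : CoordGrp.GLn n k →ₐ[k] A).toRingHom
          commutes' := fun c => by
            change fn v.left (π (algebraMap k _ c)) = fn G.hom c
            rw [AlgHomClass.commutes π, ← Over.w v]
            exact (fn_map v.left (CommRingCat.ofHom (algebraMap k A)) c).symm }
    have hX : ∀ i j, F u (CoordGrp.GLn.X i j) = F 1 (CoordGrp.GLn.X i j) := fun i j => by
      have h0 := congrFun (congrFun hR i) j
      have h1 := congrFun (congrFun (ρ.map_one (T := G)) i) j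
      show fn u.left (π (CoordGrp.GLn.X i j)) = fn ((1 : G ⟶ (Spec A).asOver (Spec (CommRingCat.of k)))).left (π (CoordGrp.GLn.X i j))
      simp only [ρ, Matrix.of_apply, Category.id_comp, MonObj.one_comp] at h0 h1
      exact h0.trans h1.symm
    have hD : F u CoordGrp.GLn.Dinv = F 1 CoordGrp.GLn.Dinv := by
      have hdet : F u CoordGrp.GLn.det = F 1 CoordGrp.GLn.det := by
        rw [CoordGrp.GLn.det_eq, AlgHom.map_det, AlgHom.map_det]
        congr 1
        ext i j
        exact hX i j
      refine left_inv_eq_right_inv (a := F u CoordGrp.GLn.det) ?_ ?_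
      · rw [← map_mul, CoordGrp.GLn.Dinv_mul_det, _root_.map_one]
      · rw [hdet, ← map_mul, CoordGrp.GLn.det_mul_Dinv, _root_.map_one]
    obtain ⟨y, rfl⟩ := hπ x
    exact congr($(CoordGrp.GLn.algHom_ext hX hD) y)
  have ht : toHull G = 1 := by
    have h := congrArg (· ≫ e.hom) hu
    simpa [u, MonObj.one_comp] using h
  simp only [← ConcreteCategory.isIso_iff_bijective, isIso_comp_left_iff]
  have hm : IsSplitMono G.hom.appTop := ⟨⟨η[G].left.appTop, by
    rw [← Scheme.Hom.comp_appTop, Over.w η[G]]; rfl⟩⟩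
  have he : IsSplitEpi G.hom.appTop := ⟨⟨inv (toHull G).left.appTop ≫ η[hull G].left.appTop, by
    rw [Category.assoc, IsIso.inv_comp_eq, Category.comp_id, ← Scheme.Hom.comp_appTop, ht]
    rfl⟩⟩
  exact isIso_of_mono_of_isSplitEpi _

/-- If all actions on affine spaces fixing the origin are trivial, the group is anti-affine. -/
theorem bijective_of_actions_trivial (G : Over (Spec (CommRingCat.of k))) [GrpObj G]
    [LocallyOfFiniteType G.hom] [QuasiCompact G.hom]
    (H : ∀ (n : ℕ) (a : AlgGrp.Action G (affSpace k n)),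
      a.IsFixedPt (mkPt 0) → a.act = snd G (affSpace k n)) :
    Function.Bijective ((Scheme.ΓSpecIso (CommRingCat.of k)).inv ≫ G.hom.appTop).hom :=
  bijective_of_matRep_trivial G fun n ρ =>
    ρ.eq_one_of_trivial (H n ρ.action ρ.isFixedPt_zero) (𝟙 G)

/-- An anti-affine group fixing a point of an integral separated scheme acts trivially. -/
theorem act_eq_snd {G X : Over (Spec (CommRingCat.of k))} [GrpObj G] [LocallyOfFiniteType G.hom]
    [QuasiCompact G.hom] [LocallyOfFiniteType X.hom] [IsSeparated X.hom] [IsIntegral X.left]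
    (hG : Function.Bijective ((Scheme.ΓSpecIso (CommRingCat.of k)).inv ≫ G.hom.appTop).hom)
    (a : AlgGrp.Action G X) (x : 𝟙_ (Over (Spec (CommRingCat.of k))) ⟶ X) (hx : a.IsFixedPt x) :
    a.act = snd G X := by
  haveI : IsSeparated G.hom := GrpField.isSeparated_hom G
  haveI : IsLocallyNoetherian X.left := LocallyOfFiniteType.isLocallyNoetherian X.hom
  have hf : (G ◁ x) ≫ a.act = toUnit _ ≫ x := by
    rw [← hx _ (fst G _)]
    congr 1
    ext1
    · rw [whiskerLeft_fst, lift_fst]
    · rw [whiskerLeft_snd, lift_snd, toUnit_unique (snd G _) (toUnit _)]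
  obtain ⟨W, j, hj, hW, U, i, hi, -, ⟨e, he⟩, w, hw⟩ := AntiAffRig.exists_nhd hG η[G] x x a.act hf
  haveI : Surjective j.left := by
    refine ⟨fun y => ?_⟩
    have hne : (Set.range i.left.base).Nonempty :=
      ⟨_, ⟨e.left.base (IsLocalRing.closedPoint k), rfl⟩⟩
    have hd : Dense (Set.range i.left.base) := i.left.isOpenEmbedding.isOpen_range.dense hne
    have hsub : Set.range i.left.base ⊆ Set.range j.left.base := by
      rintro _ ⟨u, rfl⟩
      exact ⟨w.left.base u, by rw [← hw]; rfl⟩
    exact (hj.base_closed.isClosed_range.closure_subset_iff.2 hsub) (hd y)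
  haveI : IsIso j.left := isIso_of_isClosedImmersion_of_surjective j.left
  have hall := (hW X (𝟙 X)).1 ⟨(Over.isoMk (asIso j.left) (Over.w j)).inv,
    (Over.isoMk (asIso j.left) (Over.w j)).inv_hom_id⟩ (G ⊗ X) (snd G X) (fst G X)
  rw [Category.comp_id, lift_fst_snd, Category.id_comp, Category.id_comp] at hall
  have h1 : lift (toUnit X ≫ η[G]) (𝟙 X) ≫ a.act = 𝟙 X := by
    have : lift (toUnit X ≫ η[G]) (𝟙 X) = (λ_ X).inv ≫ (η[G] ▷ X) := by
      ext1
      · rw [lift_fst, Category.assoc, whiskerRight_fst, ← Category.assoc,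
          toUnit_unique ((λ_ X).inv ≫ fst _ _) (toUnit X)]
      · simp
    rw [this, Category.assoc, a.one_act, Iso.inv_hom_id]
  rw [hall, h1, Category.comp_id]

end Groth.Agent.AffHull
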